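import Mathlib
import Groth.Agent.S5217

set_option autoImplicit false
set_option backward.isDefEq.respectTransparency false
universe w v₁ u₁

open CategoryTheory CategoryTheory.Limits MonoidalCategory
open MonObj CartesianMonoidalCategory SemiCartesianMonoidalCategory

namespace ShfQuotLib

section abstract

variable {V : Type*} [Category V] [CartesianMonoidalCategory V]

theorem isPullback_whiskerRight {A A' : V} (f : A ⟶ A') (B : V) :
    IsPullback (fst A B) (f ▷ B) f (fst A' B) :=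
  IsPullback.of_isLimit' ⟨by simp⟩ (PullbackCone.IsLimit.mk _ (fun s => lift s.fst (s.snd ≫ snd A' B))
    (fun s => by simp) (fun s => by ext <;> simp [s.condition])
    (fun s m h₁ h₂ => by ext <;> simp [← h₁, ← h₂]))

theorem isPullback_whiskerLeft (A' : V) {B B' : V} (g : B ⟶ B') :
    IsPullback (snd A' B) (A' ◁ g) g (snd A' B') :=
  IsPullback.of_isLimit' ⟨by simp⟩ (PullbackCone.IsLimit.mk _ (fun s => lift (s.snd ≫ fst A' B') s.fst)
    (fun s => by simp) (fun s => by ext <;> simp [s.condition])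
    (fun s m h₁ h₂ => by ext <;> simp [← h₁, ← h₂]))

theorem tensor_lifts {A A' B B' W : V} (f : A ⟶ A') (g : B ⟶ B') {a b : W ⟶ A ⊗ B}
    (h : a ≫ (f ⊗ₘ g) = b ≫ (f ⊗ₘ g)) :
    (a ≫ fst A B) ≫ f = (b ≫ fst A B) ≫ f ∧ (a ≫ snd A B) ≫ g = (b ≫ snd A B) ≫ g := by
  have h1 := h =≫ fst A' B'
  have h2 := h =≫ snd A' B'
  simp only [Category.assoc, tensorHom_fst, tensorHom_snd] at h1 h2
  simp only [Category.assoc]
  exact ⟨h1, h2⟩

theorem comp_whiskerLeft_mul {G H W : V} [GrpObj G] (u : H ⟶ G) (z : W ⟶ G ⊗ H) :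
    z ≫ (G ◁ u) ≫ μ[G] = (z ≫ fst G H) * ((z ≫ snd G H) ≫ u) := by
  rw [Hom.mul_def, ← Category.assoc]
  congr 1
  ext <;> simp

section rel

variable [HasPullbacks V] {H G : V} [GrpObj H] [GrpObj G] (u : H ⟶ G) [Mono u] [IsMonHom u]

theorem isEquivalenceRelation : IsEquivalenceRelation (fst G H) ((G ◁ u) ≫ μ[G]) := by
  have hp : ∀ {W : V} (z : W ⟶ G ⊗ H),
      z ≫ (G ◁ u) ≫ μ[G] = (z ≫ fst G H) * ((z ≫ snd G H) ≫ u) := fun z => comp_whiskerLeft_mul u z
  have htr : lift (pullback.fst ((G ◁ u) ≫ μ[G]) (fst G H) ≫ fst G H)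
      ((pullback.fst ((G ◁ u) ≫ μ[G]) (fst G H) ≫ snd G H) *
        (pullback.snd ((G ◁ u) ≫ μ[G]) (fst G H) ≫ snd G H)) ≫ (G ◁ u) ≫ μ[G] =
      pullback.snd ((G ◁ u) ≫ μ[G]) (fst G H) ≫ (G ◁ u) ≫ μ[G] := by
    have e := pullback.condition (f := (G ◁ u) ≫ μ[G]) (g := fst G H)
    rw [hp] at e
    rw [hp, hp, lift_fst, lift_snd, MonObj.mul_comp, ← e, _root_.mul_assoc]
  refine ⟨⟨{
    right_cancellation := fun W f g h1 h2 => ?_
    r := lift (𝟙 G) 1
    reflexivity₁ := lift_fst _ _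
    reflexivity₂ := ?_
    s := lift ((G ◁ u) ≫ μ[G]) (snd G H)⁻¹
    symmetry₁ := lift_fst _ _
    symmetry₂ := ?_
    c := PullbackCone.mk _ _ (pullback.condition (f := (G ◁ u) ≫ μ[G]) (g := fst G H))
    isLimit := pullbackIsPullback _ _
    t := lift (pullback.fst ((G ◁ u) ≫ μ[G]) (fst G H) ≫ fst G H)
      ((pullback.fst ((G ◁ u) ≫ μ[G]) (fst G H) ≫ snd G H) *
        (pullback.snd ((G ◁ u) ≫ μ[G]) (fst G H) ≫ snd G H))
    transitivity₁ := lift_fst _ _
    transitivity₂ := ?_ }⟩⟩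
  · refine hom_ext _ _ h1 ?_
    rw [hp, hp, h1] at h2
    exact (cancel_mono u).1 (mul_left_cancel h2)
  · rw [hp, lift_fst, lift_snd, MonObj.one_comp]; exact _root_.mul_one _
  · rw [hp, lift_fst, lift_snd, GrpObj.inv_comp]
    have := hp (𝟙 (G ⊗ H))
    simp only [Category.id_comp] at this
    rw [this, _root_.mul_assoc, mul_inv_cancel, _root_.mul_one]
  · exact htr
end rel

section subgrp

variable {A B : V} (i : A ⟶ B) [Mono i]

/-- A point lies in a monomorphism. -/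
def Mem {W : V} (g : W ⟶ B) : Prop := ∃ x : W ⟶ A, x ≫ i = g

/-- Closed under the group operations. -/
structure IsSubgrp [GrpObj B] : Prop where
  one : ∀ W : V, Mem i (1 : W ⟶ B)
  mul : ∀ {W : V} {g g' : W ⟶ B}, Mem i g → Mem i g' → Mem i (g * g')
  inv : ∀ {W : V} {g : W ⟶ B}, Mem i g → Mem i g⁻¹

omit [Mono i] in
theorem isSubgrp_of_str [GrpObj B] (str : GrpObj A) (h : @IsMonHom _ _ _ _ _ str.toMonObj (inferInstance : MonObj B) i) :
    IsSubgrp i := by
  letI := str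
  haveI := h
  refine ⟨fun W => ⟨1, MonObj.one_comp i⟩, ?_, ?_⟩
  · rintro W g g' ⟨x, rfl⟩ ⟨x', rfl⟩
    exact ⟨x * x', MonObj.mul_comp x x' i⟩
  · rintro W g ⟨x, rfl⟩
    exact ⟨x⁻¹, GrpObj.inv_comp x i⟩

theorem IsSubgrp.exists_str [GrpObj B] (hs : IsSubgrp i) :
    ∃ str : GrpObj A, @IsMonHom _ _ _ _ _ str.toMonObj (inferInstance : MonObj B) i := by
  obtain ⟨e, he⟩ := hs.one (𝟙_ _)
  obtain ⟨m, hm⟩ := hs.mul (⟨fst A A, rfl⟩ : Mem i (fst A A ≫ i)) (⟨snd A A, rfl⟩ : Mem i (snd A A ≫ i))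
  obtain ⟨v, hv⟩ := hs.inv (⟨𝟙 A, Category.id_comp i⟩ : Mem i i)
  have he' : e ≫ i = η[B] := by rw [he, Hom.one_def, toUnit_unique (toUnit (𝟙_ _)) (𝟙 _), Category.id_comp]
  have hmul : ∀ {W : V} (x y : W ⟶ A), lift x y ≫ m ≫ i = (x ≫ i) * (y ≫ i) := fun x y => by
    rw [hm, Hom.mul_def, Hom.mul_def, ← Category.assoc, comp_lift, lift_fst_assoc, lift_snd_assoc]
  have hone : ∀ {W : V} (f : W ⟶ 𝟙_ _), (f ≫ e) ≫ i = (1 : W ⟶ B) := fun f => by
    rw [Category.assoc, he', Hom.one_def, toUnit_unique f (toUnit _)]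
  let M : MonObj A :=
    { one := e
      mul := m
      one_mul := by
        rw [← cancel_mono i, show e ▷ A = lift (fst _ _ ≫ e) (snd _ _) from by ext <;> simp,
          Category.assoc, hmul, hone, _root_.one_mul, leftUnitor_hom]
      mul_one := by
        rw [← cancel_mono i, show A ◁ e = lift (fst _ _) (snd _ _ ≫ e) from by ext <;> simp,
          Category.assoc, hmul, hone, _root_.mul_one, rightUnitor_hom]
      mul_assoc := by
        have h2 : ∀ {W : V} (x y : W ⟶ A), (lift x y ≫ m) ≫ i = (x ≫ i) * (y ≫ i) := fun x y => by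
          rw [Category.assoc, hmul]
        have e1 : fst (A ⊗ A) A ≫ m = lift (fst (A ⊗ A) A ≫ fst A A) (fst (A ⊗ A) A ≫ snd A A) ≫ m := by
          rw [← comp_lift, lift_fst_snd, Category.comp_id]
        have e2 : (α_ A A A).hom ≫ A ◁ m = lift (fst (A ⊗ A) A ≫ fst A A)
            (lift (fst (A ⊗ A) A ≫ snd A A) (snd (A ⊗ A) A) ≫ m) := by
          have : (α_ A A A).hom ≫ snd A (A ⊗ A) = lift (fst (A ⊗ A) A ≫ snd A A) (snd (A ⊗ A) A) := by
            ext <;> simp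
          refine hom_ext _ _ ?_ ?_
          · simp
          · rw [lift_snd, Category.assoc, whiskerLeft_snd, ← Category.assoc, this]
        rw [← cancel_mono i, show m ▷ A = lift (fst _ _ ≫ m) (snd _ _) from by ext <;> simp,
          ← Category.assoc ((α_ A A A).hom), e2, h2, h2, e1, h2, h2, _root_.mul_assoc] }
  letI := M
  let str : GrpObj A :=
    { inv := v
      left_inv := by
        rw [← cancel_mono i]
        show (lift v (𝟙 A) ≫ m) ≫ i = (toUnit _ ≫ e) ≫ i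
        rw [Category.assoc, hmul, hv, Category.id_comp, inv_mul_cancel, hone]
      right_inv := by
        rw [← cancel_mono i]
        show (lift (𝟙 A) v ≫ m) ≫ i = (toUnit _ ≫ e) ≫ i
        rw [Category.assoc, hmul, hv, Category.id_comp, mul_inv_cancel, hone] }
  refine ⟨str, { one_hom := he', mul_hom := ?_ }⟩
  show m ≫ i = (i ⊗ₘ i) ≫ μ[B]
  rw [hm, Hom.mul_def]
  congr 1
  ext <;> simp

end subgrp

end abstract

variable {C : Type u₁} [Category.{v₁} C] {J : GrothendieckTopology C} [HasSheafify J (Type w)]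

/-- Epimorphisms of sheaves of sets are stable under base change. -/
theorem epi_of_isPullback {P X Y Z : Sheaf J (Type w)} {a : P ⟶ X} {b : P ⟶ Y} {f : X ⟶ Z} {g : Y ⟶ Z}
    (sq : IsPullback a b f g) [Epi f] : Epi b := by
  have hls : Sheaf.IsLocallySurjective f := (Sheaf.isLocallySurjective_iff_epi f).mpr inferInstance
  refine (Sheaf.isLocallySurjective_iff_epi b).mp ⟨fun {U} z => ?_⟩
  refine J.superset_covering ?_ (Presheaf.imageSieve_mem J f.hom (g.hom.app (Opposite.op U) z))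
  rintro V i ⟨x, hx⟩
  let Φ := sheafToPresheaf J (Type w) ⋙ (evaluation Cᵒᵖ (Type w)).obj (Opposite.op V)
  have sq' := Φ.map_isPullback sq
  obtain ⟨c, -, hc⟩ := ((Types.isPullback_iff _ _ _ _).mp sq').2.2 x (Y.obj.map i.op z)
    (hx.trans (NatTrans.naturality_apply g.hom i.op z).symm)
  exact ⟨c, hc⟩

/-- Descent along an epimorphism. -/
theorem descend {A B X : Sheaf J (Type w)} (π : A ⟶ B) [Epi π] (f : A ⟶ X)
    (h : ∀ (W : Sheaf J (Type w)) (a b : W ⟶ A), a ≫ π = b ≫ π → a ≫ f = b ≫ f) :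
    ∃ g : B ⟶ X, π ≫ g = f := by
  haveI : IsRegularEpi π := IsRegularEpiCategory.regularEpiOfEpi π
  haveI : EffectiveEpi π := (isRegularEpi_iff_effectiveEpi π).1 inferInstance
  exact ⟨EffectiveEpi.desc π f (fun g₁ g₂ e => h _ g₁ g₂ e), EffectiveEpi.fac π f _⟩

/-- Local lifts along an epimorphism. -/
theorem exists_lift {A B W : Sheaf J (Type w)} (π : A ⟶ B) [Epi π] (z : W ⟶ B) :
    ∃ (W' : Sheaf J (Type w)) (p : W' ⟶ W) (_ : Epi p) (a : W' ⟶ A), a ≫ π = p ≫ z :=
  ⟨pullback π z, pullback.snd π z, epi_of_isPullback (IsPullback.of_hasPullback π z), pullback.fst π z,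
    pullback.condition⟩

/-- Membership in a monomorphism is local. -/
theorem mem_of_epi {A B W W' : Sheaf J (Type w)} (i : A ⟶ B) [Mono i] (p : W' ⟶ W) [Epi p] (g : W ⟶ B)
    (y : W' ⟶ A) (h : y ≫ i = p ≫ g) : ∃ x : W ⟶ A, x ≫ i = g := by
  obtain ⟨x, hx⟩ := descend p y fun T a b hab => by
    rw [← cancel_mono i, Category.assoc, Category.assoc, h, ← Category.assoc, hab, Category.assoc]
  exact ⟨x, by rw [← cancel_epi p, ← Category.assoc, hx, h]⟩

instance epi_tensorHom {A A' B B' : Sheaf J (Type w)} (f : A ⟶ A') (g : B ⟶ B') [Epi f] [Epi g] :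
    Epi (f ⊗ₘ g) := by
  haveI := epi_of_isPullback (isPullback_whiskerRight f B)
  haveI := epi_of_isPullback (isPullback_whiskerLeft A' g)
  rw [MonoidalCategory.tensorHom_def]
  infer_instance

instance epi_whiskerRight {A A' B : Sheaf J (Type w)} (f : A ⟶ A') [Epi f] : Epi (f ▷ B) := by
  rw [← tensorHom_id]; infer_instance

instance epi_whiskerLeft {A B B' : Sheaf J (Type w)} (g : B ⟶ B') [Epi g] : Epi (A ◁ g) := by
  rw [← id_tensorHom]; infer_instance

section quot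

variable {H G : Sheaf J (Type w)} [GrpObj H] [GrpObj G] (u : H ⟶ G) [Mono u] [IsMonHom u]

omit [Mono u] [IsMonHom u] in
theorem coset_eq {W : Sheaf J (Type w)} (a : W ⟶ G) (h : W ⟶ H) :
    (a * (h ≫ u)) ≫ coequalizer.π (fst G H) ((G ◁ u) ≫ μ[G]) =
      a ≫ coequalizer.π (fst G H) ((G ◁ u) ≫ μ[G]) := by
  have e := (lift a h) ≫= coequalizer.condition (fst G H) ((G ◁ u) ≫ μ[G])
  rw [← Category.assoc, ← Category.assoc, comp_whiskerLeft_mul, lift_fst, lift_snd] at e
  exact e.symm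

/-- The fibres of the quotient map are the cosets. -/
theorem exists_of_eq {W : Sheaf J (Type w)} {a b : W ⟶ G}
    (hab : a ≫ coequalizer.π (fst G H) ((G ◁ u) ≫ μ[G]) = b ≫ coequalizer.π (fst G H) ((G ◁ u) ≫ μ[G])) :
    ∃ h : W ⟶ H, b = a * (h ≫ u) := by
  haveI := isEquivalenceRelation u
  obtain ⟨e⟩ := (Groth.Agent.S5217.result J (fst G H) ((G ◁ u) ≫ μ[G])).nonempty_universallyEffectiveEquivalenceRelation
  have hb : a ≫ e.π = b ≫ e.π := by
    have hd := coequalizer.π_desc (f := fst G H) (g := (G ◁ u) ≫ μ[G]) e.π e.isKernelPair.w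
    rw [← hd, ← Category.assoc, hab, Category.assoc]
  refine ⟨e.isKernelPair.lift a b hb ≫ snd G H, ?_⟩
  conv_lhs => rw [← e.isKernelPair.lift_snd a b hb, comp_whiskerLeft_mul, e.isKernelPair.lift_fst]

end quot

end ShfQuotLib
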